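import Cfsg.Agent.Omega.EDel.BxN.Loc

/-!
# (UNI_B) / par at any level, `q = 2`: the action of `P` on `V W`, `W = zl B P`

* `Loc.actW` : `[V, P] ≤ W` if some member `A ≤ B` is not in `O₂(P)`;
* `Loc.centW` : then `C_P(W)` centralises `V`;
* `Loc.two_of` : transvection class: two vectors of `Ω₁(Z(B))` moved by `P` have a product centralised by `P`;
* `Loc.exists_u` : an offender `A ≤ B` which moves `V` has `[u, A] = ⟨z⟩` for some `u ∈ W`.
-/

set_option autoImplicit false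
set_option linter.unusedSectionVars false

namespace Cfsg.Agent.Omega.EDel.BxN

open Subgroup Cfsg Cfsg.Agent.ZN.ChoiceBase Cfsg.Agent.ZN.ChoiceSit
open Cfsg.Agent.ZN (zc zl o2)
open Cfsg.Agent.MinSimple.MinParabolic (IsMinPar)
open Cfsg.Agent.Omega.FFThm (Off NoOver)
open Cfsg.Agent.Omega.GI.PL (card_mul_relIndex relIndex_cj card_sup_mul_of_comm)
open Cfsg.Agent.Omega.SQ1.Bau (mem_sup_comm)

universe u

variable {G : Type u} [Group G]

/-- the elements of `P` with `[p, X] ≤ W` -/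
def act (P X W : Subgroup G) (hW : P ≤ normalizer (W : Set G)) : Subgroup G where
  carrier := {p | p ∈ P ∧ ∀ x ∈ X, p * x * p⁻¹ * x⁻¹ ∈ W}
  one_mem' := ⟨one_mem _, fun x _ => by
    have e : (1 : G) * x * 1⁻¹ * x⁻¹ = 1 := by group
    rw [e]; exact one_mem _⟩
  mul_mem' := by
    rintro p q ⟨hp, hp'⟩ ⟨hq, hq'⟩
    refine ⟨mul_mem hp hq, fun x hx => ?_⟩
    have e : p * q * x * (p * q)⁻¹ * x⁻¹ = p * (q * x * q⁻¹ * x⁻¹) * p⁻¹ * (p * x * p⁻¹ * x⁻¹) := by group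
    rw [e]
    exact mul_mem ((mem_normalizer_iff.1 (hW hp) _).1 (hq' x hx)) (hp' x hx)
  inv_mem' := by
    rintro p ⟨hp, hp'⟩
    refine ⟨inv_mem hp, fun x hx => ?_⟩
    have e : p⁻¹ * x * p⁻¹⁻¹ * x⁻¹ = p⁻¹ * (p * x * p⁻¹ * x⁻¹)⁻¹ * p⁻¹⁻¹ := by group
    rw [e]
    exact (mem_normalizer_iff.1 (hW (inv_mem hp)) _).1 (inv_mem (hp' x hx))

theorem mem_act {P X W : Subgroup G} {hW : P ≤ normalizer (W : Set G)} {p : G} :
    p ∈ act P X W hW ↔ p ∈ P ∧ ∀ x ∈ X, p * x * p⁻¹ * x⁻¹ ∈ W := Iff.rfl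

theorem act_norm [Finite G] {P X W : Subgroup G} {hW : P ≤ normalizer (W : Set G)}
    (hX : P ≤ normalizer (X : Set G)) : P ≤ normalizer (act P X W hW : Set G) := by
  intro p hp
  refine mem_normalizer_of_cj_le ?_
  rintro _ ⟨k, ⟨hk, hk'⟩, rfl⟩
  change p * k * p⁻¹ ∈ act P X W hW
  refine ⟨mul_mem (mul_mem hp hk) (inv_mem hp), fun x hx => ?_⟩
  have h1 : p⁻¹ * x * p⁻¹⁻¹ ∈ X := (mem_normalizer_iff.1 (hX (inv_mem hp)) _).1 hx
  have h2 := (mem_normalizer_iff.1 (hW hp) _).1 (hk' _ h1)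
  have e : p * (k * (p⁻¹ * x * p⁻¹⁻¹) * k⁻¹ * (p⁻¹ * x * p⁻¹⁻¹)⁻¹) * p⁻¹ =
      p * k * p⁻¹ * x * (p * k * p⁻¹)⁻¹ * x⁻¹ := by group
  rwa [e] at h2

/-- `c ↦ [c, v]` -/
def phi (C W : Subgroup G) (v : G) (h1 : ∀ c ∈ C, c * v * c⁻¹ * v⁻¹ ∈ W) (h2 : ∀ c ∈ C, ∀ w ∈ W, c * w = w * c)
    (h3 : ∀ x ∈ W, ∀ y ∈ W, x * y = y * x) : C →* W where
  toFun c := ⟨c * v * (c : G)⁻¹ * v⁻¹, h1 c c.2⟩
  map_one' := by ext; simp
  map_mul' := by
    rintro ⟨c, hc⟩ ⟨d, hd⟩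
    ext
    change c * d * v * (c * d)⁻¹ * v⁻¹ = (c * v * c⁻¹ * v⁻¹) * (d * v * d⁻¹ * v⁻¹)
    rw [h3 _ (h1 c hc) _ (h1 d hd)]
    have h4 := h2 c hc _ (h1 d hd)
    calc c * d * v * (c * d)⁻¹ * v⁻¹ = (c * (d * v * d⁻¹ * v⁻¹)) * c⁻¹ * (c * v * c⁻¹ * v⁻¹) := by group
      _ = ((d * v * d⁻¹ * v⁻¹) * c) * c⁻¹ * (c * v * c⁻¹ * v⁻¹) := by rw [h4]
      _ = _ := by group

/-- normal closure -/
def nc (P A : Subgroup G) : Subgroup G := ⨆ x : P, cj (x : G) A

theorem nc_le {P A K : Subgroup G} (h : ∀ p ∈ P, cj p A ≤ K) : nc P A ≤ K := iSup_le fun x => h x x.2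

theorem le_nc {P A : Subgroup G} {p : G} (hp : p ∈ P) : cj p A ≤ nc P A :=
  le_iSup (fun x : P => cj (x : G) A) ⟨p, hp⟩

theorem le_nc' {P A : Subgroup G} : A ≤ nc P A := by
  have := le_nc (A := A) (one_mem P)
  rwa [cj_one] at this

theorem nc_norm [Finite G] {P A : Subgroup G} : P ≤ normalizer (nc P A : Set G) := by
  intro p hp
  refine mem_normalizer_of_cj_le ?_
  rw [cj_le_iff]
  refine nc_le fun q hq => ?_
  rw [← cj_le_iff, cj_cj]
  exact le_nc (mul_mem hp hq)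

theorem nc_le_self {P A : Subgroup G} (h : A ≤ P) : nc P A ≤ P := by
  refine nc_le fun p hp => ?_
  rintro _ ⟨a, ha, rfl⟩
  exact mul_mem (mul_mem hp (h ha)) (inv_mem hp)

section

variable [Finite G] {B L P U V : Subgroup G} {z : G} (h : Loc B L P U V z)
include h

theorem Loc.dich {N : Subgroup G} (hN : N ≤ P) (hPN : P ≤ normalizer (N : Set G)) : N ⊔ B = P ∨ B ⊓ N ≤ o2 P := by
  have : Fact (Nat.Prime 2) := ⟨Nat.prime_two⟩
  exact h.mp.sup_eq_or_inf_le h.two (syl_not_dvd h.syl) hN hPN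

theorem Loc.gen_nc {A : Subgroup G} (hAB : A ≤ B) (hAO : ¬ A ≤ o2 P) : nc P A ⊔ B = P := by
  rcases h.dich (nc_le_self (hAB.trans h.BP)) nc_norm with h1 | h1
  · exact h1
  · exact absurd ((le_inf hAB le_nc').trans h1) hAO

theorem Loc.QW : o2 P ≤ centralizer (zl B P : Set G) := by
  have h1 : o2 P ≤ centralizer (zc B : Set G) := (o2_le_syl h.syl).trans (MinSimple.VModule.le_centralizer_zc B)
  have h2 : zl B P ≤ centralizer (o2 P : Set G) := by
    refine iSup_le fun x => ?_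
    have h3 := cj_mono (x : G) (le_centralizer_iff.1 h1)
    rwa [cj_centralizer, cj_eq_of_mem_normalizer (MinSimple.VModule.le_normalizer_o2 P x.2)] at h3
  exact le_centralizer_iff.1 h2

/-- `[V, P] ≤ W` -/
theorem Loc.actW {A : Subgroup G} (hAB : A ≤ B) (hAO : ¬ A ≤ o2 P)
    (hsup : zl B P ⊔ (U ⊓ centralizer (A : Set G)) = U) : ∀ p ∈ P, ∀ x ∈ V, p * x * p⁻¹ * x⁻¹ ∈ zl B P := by
  have hA : A ≤ act P U (zl B P) h.PW := by
    intro a ha
    refine ⟨h.BP (hAB ha), fun x hx => ?_⟩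
    rw [← hsup] at hx
    obtain ⟨w, hw, c, hc, rfl⟩ := mem_sup_comm (A := zl B P) (B := U ⊓ centralizer (A : Set G))
      (fun v hv x hx => h.ab v (h.WU hv) x hx.1) hx
    have h1 : a * c = c * a := comm_cent hc.2 ha
    have e : a * (w * c) * a⁻¹ * (w * c)⁻¹ = a * w * a⁻¹ * w⁻¹ := by
      calc a * (w * c) * a⁻¹ * (w * c)⁻¹ = a * w * (c * a⁻¹) * c⁻¹ * w⁻¹ := by group
        _ = a * w * (a⁻¹ * (a * c) * a⁻¹) * c⁻¹ * w⁻¹ := by group
        _ = a * w * (a⁻¹ * (c * a) * a⁻¹) * c⁻¹ * w⁻¹ := by rw [h1]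
        _ = _ := by group
    rw [e]
    exact mul_mem ((mem_normalizer_iff.1 (h.PW (h.BP (hAB ha))) _).1 hw) (inv_mem hw)
  have h1 : act P U (zl B P) h.PW ⊔ B = P := by
    rcases h.dich (N := act P U (zl B P) h.PW) (fun x hx => (mem_act.1 hx).1) (act_norm h.nP) with h1 | h1
    · exact h1
    · exact absurd ((le_inf hAB hA).trans h1) hAO
  have h2 : P ≤ act P V (zl B P) h.PW := by
    refine h1.symm.le.trans (sup_le ?_ ?_)
    · exact fun p hp => ⟨(mem_act.1 hp).1, fun x hx => (mem_act.1 hp).2 x (h.VU hx)⟩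
    · intro b hb
      refine ⟨h.BP hb, fun x hx => ?_⟩
      rcases h.BV b hb x hx with e | e
      · rw [e]; exact one_mem _
      · rw [e]; exact h.zW
  exact fun p hp x hx => (mem_act.1 (h2 hp)).2 x hx

/-- **`C_P(W)` centralises `V`.** -/
theorem Loc.centW (hW : ∀ p ∈ P, ∀ x ∈ V, p * x * p⁻¹ * x⁻¹ ∈ zl B P) :
    P ⊓ centralizer (zl B P : Set G) ≤ centralizer (V : Set G) := by
  set C := P ⊓ centralizer (zl B P : Set G) with hC
  have hCn : ∀ p ∈ P, ∀ c ∈ C, p * c * p⁻¹ ∈ C := by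
    intro p hp c hc
    refine mem_inf.2 ⟨mul_mem (mul_mem hp hc.1) (inv_mem hp), ?_⟩
    have h1 : cj p (centralizer (zl B P : Set G)) = centralizer (zl B P : Set G) := by
      rw [cj_centralizer, cj_eq_of_mem_normalizer (h.PW hp)]
    rw [← h1]
    exact ⟨c, hc.2, rfl⟩
  have hsyl : Syl (B ⊓ C) C := Omega.SQ1.FFOne.syl_inf h.syl inf_le_left hCn
  have hWab : ∀ x ∈ zl B P, ∀ y ∈ zl B P, x * y = y * x := fun x hx y hy => h.ab x (h.WU hx) y (h.WU hy)
  have hCW : ∀ c ∈ C, ∀ w ∈ zl B P, c * w = w * c := fun c hc w hw => (comm_cent hc.2 hw).symm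
  -- all commutators are in `{1, z}`
  have key : ∀ v ∈ V, ∀ c ∈ C, c * v * c⁻¹ * v⁻¹ = 1 ∨ c * v * c⁻¹ * v⁻¹ = z := by
    intro v hv c hc
    set φ := phi C (zl B P) v (fun c hc => hW c hc.1 v hv) hCW hWab with hφ
    have hφv : ∀ d : C, (φ d : G) = d * v * (d : G)⁻¹ * v⁻¹ := fun d => rfl
    obtain ⟨k, m, hm, hn⟩ := Nat.exists_eq_two_pow_mul_odd (orderOf_pos (⟨c, hc⟩ : C)).ne'
    set d : C := (⟨c, hc⟩ : C) ^ m with hd
    have hφd : φ d = φ ⟨c, hc⟩ := by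
      obtain ⟨j, rfl⟩ := hm
      have h1 : φ ⟨c, hc⟩ * φ ⟨c, hc⟩ = 1 := by
        ext
        exact h.sq _ (h.WU (φ ⟨c, hc⟩).2)
      rw [hd, map_pow, pow_succ, pow_mul, pow_two, h1, one_pow, one_mul]
    have hd2 : d ^ 2 ^ k = 1 := by
      rw [hd, ← pow_mul, Nat.mul_comm, ← hn, pow_orderOf_eq_one]
    have hd2' : (d : G) ^ 2 ^ k = 1 := by
      have := congrArg Subtype.val hd2
      simpa using this
    have hpg : IsPGroup 2 (zpowers (d : G)) := by
      have : Fact (Nat.Prime 2) := ⟨Nat.prime_two⟩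
      refine IsPGroup.of_card (n := Nat.log 2 (Nat.card (zpowers (d : G)))) ?_ |>.to_le le_rfl
      have h1 : orderOf (d : G) ∣ 2 ^ k := orderOf_dvd_of_pow_eq_one hd2'
      obtain ⟨i, hi, e⟩ := (Nat.dvd_prime_pow Nat.prime_two).1 h1
      rw [Nat.card_zpowers, e, Nat.log_pow (by norm_num)]
    obtain ⟨S, hS, hdS⟩ := exists_syl hpg (zpowers_le.2 d.2)
    obtain ⟨x, hx, e⟩ := syl_conj hS hsyl
    have hb : x * d * x⁻¹ ∈ B ⊓ C := by
      rw [← e]
      exact ⟨d, hdS (mem_zpowers _), rfl⟩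
    have h3 : φ ⟨x * d * x⁻¹, hb.2⟩ = φ d := by
      have e1 : (⟨x * d * x⁻¹, hb.2⟩ : C) = ⟨x, hx⟩ * d * ⟨x, hx⟩⁻¹ := by ext; rfl
      rw [e1, map_mul, map_mul, map_inv]
      ext
      have h4 := hWab _ (φ ⟨x, hx⟩).2 _ (φ d).2
      change (φ ⟨x, hx⟩ : G) * φ d * (φ ⟨x, hx⟩ : G)⁻¹ = φ d
      rw [h4]
      group
    have h4 := h.BV _ hb.1 v hv
    have h5 : x * d * x⁻¹ * v * (x * d * x⁻¹)⁻¹ * v⁻¹ = c * v * c⁻¹ * v⁻¹ := by
      have h6 := congrArg Subtype.val (h3.trans hφd)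
      exact h6
    rwa [h5] at h4
  intro c hc
  rw [mem_centralizer_iff]
  intro v hv
  rcases key v hv c hc with e | e
  · exact (mul_inv_eq_iff_eq_mul.1 (mul_inv_eq_one.1 e)).symm
  · exfalso
    apply h.zP
    intro p hp
    rw [mem_centralizer_singleton_iff]
    have hc' := hCn p hp c hc
    set w := p * v * p⁻¹ * v⁻¹ with hw
    have hwW : w ∈ zl B P := hW p hp v hv
    have h1 : p * z * p⁻¹ = (p * c * p⁻¹) * v * (p * c * p⁻¹)⁻¹ * v⁻¹ := by
      have h2 := hCW _ hc' _ hwW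
      have h3 := hWab _ (hW _ hc'.1 v hv) _ hwW
      calc p * z * p⁻¹ = p * (c * v * c⁻¹ * v⁻¹) * p⁻¹ := by rw [e]
        _ = ((p * c * p⁻¹) * w) * v * (p * c * p⁻¹)⁻¹ * v⁻¹ * w⁻¹ := by rw [hw]; group
        _ = w * ((p * c * p⁻¹) * v * (p * c * p⁻¹)⁻¹ * v⁻¹) * w⁻¹ := by rw [h2]; group
        _ = _ := by rw [← h3]; group
    rcases key v hv _ hc' with e1 | e1
    · exfalso
      rw [e1] at h1
      exact h.z1 (conj_eq_one_iff.1 h1)
    · rw [e1] at h1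
      exact mul_inv_eq_iff_eq_mul.1 h1

/-- **transvection class**: two vectors moved by `P` have a product centralised by `P` -/
theorem Loc.two_of {A₀ A₁ : Subgroup G} (hA₀ : Mn B (L ⊔ P) U A₀) (hA₀B : A₀ ≤ B)
    (hm : ¬ A₀ ≤ centralizer (V : Set G)) (hA₁ : Mn B (L ⊔ P) U A₁) (hA₁B : A₁ ≤ B) (hA₁O : ¬ A₁ ≤ o2 P)
    {x y : G} (hx : x ∈ zc B) (hy : y ∈ zc B) (hxP : ¬ P ≤ centralizer ({x} : Set G))
    (hyP : ¬ P ≤ centralizer ({y} : Set G)) : P ≤ centralizer ({x * y} : Set G) := by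
  by_contra hxy
  obtain ⟨M, hM, huniq⟩ := h.mp.exists_max
  have hle : ∀ t ∈ zc B, ¬ P ≤ centralizer ({t} : Set G) → P ⊓ centralizer ({t} : Set G) ≤ M := by
    intro t ht hn
    refine huniq _ (le_inf h.BP fun b hb => ?_) (lt_of_le_of_ne inf_le_left fun e => hn ?_)
    · rw [mem_centralizer_singleton_iff]
      exact (mem_zc.1 ht).2.2 b hb
    · rw [← e]
      exact inf_le_right
  have hN : nc P A₁ ≤ M := by
    refine nc_le fun p hp => ?_
    have hp' := hA₁.cj h.nH (mem_sup_right hp)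
    obtain ⟨-, h2⟩ := h.all hA₀ hA₀B hm hp'
    have hcP : ZN.ChoiceBase.cj p A₁ ≤ P := (le_nc hp).trans (nc_le_self (hA₁B.trans h.BP))
    set K := U ⊓ centralizer (ZN.ChoiceBase.cj p A₁ : Set G) with hK
    have hidx : (K.subgroupOf U).index = 2 := by
      have h3 := card_mul_relIndex (inf_le_left : K ≤ U)
      rw [h2, Nat.mul_comm] at h3
      exact Nat.eq_of_mul_eq_mul_right Nat.card_pos h3
    have hcase : x ∈ K ∨ y ∈ K ∨ x * y ∈ K := by
      have h3 := Subgroup.mul_mem_iff_of_index_two hidx (a := ⟨x, h.ZU hx⟩) (b := ⟨y, h.ZU hy⟩)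
      simp only [mem_subgroupOf] at h3
      change x * y ∈ K ↔ (x ∈ K ↔ y ∈ K) at h3
      tauto
    have hfin : ∀ t ∈ zc B, ¬ P ≤ centralizer ({t} : Set G) → t ∈ K → ZN.ChoiceBase.cj p A₁ ≤ M := by
      intro t ht hn htK
      refine (le_inf hcP fun a ha => ?_).trans (hle t ht hn)
      rw [mem_centralizer_singleton_iff]
      exact comm_cent htK.2 ha
    rcases hcase with h3 | h3 | h3
    · exact hfin x hx hxP h3
    · exact hfin y hy hyP h3
    · exact hfin _ (mul_mem hx hy) hxy h3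
  have h1 := h.gen_nc hA₁B hA₁O
  have hBM : B ≤ M := (le_inf h.BP fun b hb => by
    rw [mem_centralizer_singleton_iff]
    exact (mem_zc.1 hx).2.2 b hb : B ≤ P ⊓ centralizer ({x} : Set G)).trans (hle x hx hxP)
  exact absurd (h1 ▸ sup_le hN hBM : P ≤ M) (not_le_of_gt hM)

/-- the vectors of `V` -/
theorem Loc.V_eq {v : G} (hv : v ∈ V) (hv1 : v ≠ 1) (hvz : v ≠ z) {x : G} (hx : x ∈ V) :
    x = 1 ∨ x = z ∨ x = v ∨ x = z * v := by
  by_cases hx1 : x = 1
  · exact Or.inl hx1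
  right
  have hsqV : ∀ t ∈ V, t ^ 2 = 1 := fun t ht => by rw [pow_two]; exact h.sq t (h.VU ht)
  rcases NO3S.eq_of_card_four h.V4 hsqV h.zV h.z1 hv hv1 (Ne.symm hvz) hx hx1 with e | e | e
  · exact Or.inl e
  · exact Or.inr (Or.inl e)
  · exact Or.inr (Or.inr e)

/-- a subgroup of `B` which centralises one more vector of `V` centralises `V` -/
theorem Loc.cent_V {v : G} (hv : v ∈ V) (hv1 : v ≠ 1) (hvz : v ≠ z) {b : G} (hb : b ∈ B) (hbv : b * v = v * b) :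
    b ∈ centralizer (V : Set G) := by
  rw [mem_centralizer_iff]
  intro x hx
  have hz := h.Bc hb
  rcases h.V_eq hv hv1 hvz hx with e | e | e | e
  · rw [e]; group
  · rw [e]; exact hz.symm
  · rw [e]; exact hbv.symm
  · rw [e]
    calc z * v * b = z * (v * b) := by group
      _ = (z * b) * v := by rw [← hbv]; group
      _ = b * (z * v) := by rw [← hz]; group

/-- **an offender `A ≤ B` which moves `V`: `[u, A] = ⟨z⟩` for some `u ∈ W`** -/
theorem Loc.exists_u (hW : ∀ p ∈ P, ∀ x ∈ V, p * x * p⁻¹ * x⁻¹ ∈ zl B P) (hno : NoOver (zl B P) P) :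
    ∃ A ≤ B, Off (zl B P) A ∧ ∃ u ∈ zl B P, (∀ a ∈ A, a * u * a⁻¹ * u⁻¹ = 1 ∨ a * u * a⁻¹ * u⁻¹ = z) ∧
      ∃ a ∈ A, a * u * a⁻¹ * u⁻¹ = z := by
  obtain ⟨A, hAB, hAe, hAV, hbest⟩ := h.off
  have hcent := h.centW hW
  set A' := A ⊓ centralizer (zl B P : Set G) with hA'
  have hA'V : A' ≤ centralizer (V : Set G) := (le_inf (inf_le_left.trans (hAB.trans h.BP)) inf_le_right).trans hcent
  have hzz : z⁻¹ = z := inv_eq_of_mul_eq_one_left (h.sq z (h.VU h.zV))
  -- general inequality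
  have hgen : ∀ M : Subgroup G, M ≤ U → A' ≤ centralizer (M : Set G) →
      Nat.card M * Nat.card A' ≤ Nat.card A * Nat.card ↥(M ⊓ centralizer (A : Set G)) := by
    intro M hMU hMA
    have h1 := hbest A' inf_le_left
    have h2 := card_sup_mul_of_comm (K := M) (L := U ⊓ centralizer (A : Set G)) fun a ha b hb => h.ab a (hMU ha) b hb.1
    have h3 : M ⊓ (U ⊓ centralizer (A : Set G)) = M ⊓ centralizer (A : Set G) := by
      rw [← inf_assoc, inf_eq_left.2 hMU]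
    rw [h3] at h2
    have h4 : M ⊔ (U ⊓ centralizer (A : Set G)) ≤ U ⊓ centralizer (A' : Set G) := by
      refine sup_le (le_inf hMU (le_centralizer_iff.1 hMA)) (inf_le_inf_left _ (centralizer_le inf_le_left))
    have h5 := Subgroup.card_le_of_le h4
    refine Nat.le_of_mul_le_mul_right ?_ (Nat.card_pos : 0 < Nat.card ↥(U ⊓ centralizer (A : Set G)))
    calc Nat.card M * Nat.card A' * Nat.card ↥(U ⊓ centralizer (A : Set G))
        = Nat.card A' * (Nat.card M * Nat.card ↥(U ⊓ centralizer (A : Set G))) := by ring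
      _ = Nat.card A' * (Nat.card ↥(M ⊔ (U ⊓ centralizer (A : Set G))) * Nat.card ↥(M ⊓ centralizer (A : Set G))) := by
          rw [h2]
      _ ≤ Nat.card A' * (Nat.card ↥(U ⊓ centralizer (A' : Set G)) * Nat.card ↥(M ⊓ centralizer (A : Set G))) :=
          Nat.mul_le_mul_left _ (Nat.mul_le_mul_right _ h5)
      _ = (Nat.card A' * Nat.card ↥(U ⊓ centralizer (A' : Set G))) * Nat.card ↥(M ⊓ centralizer (A : Set G)) := by ring
      _ ≤ (Nat.card A * Nat.card ↥(U ⊓ centralizer (A : Set G))) * Nat.card ↥(M ⊓ centralizer (A : Set G)) :=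
          Nat.mul_le_mul_right _ h1
      _ = _ := by ring
  have hWle := hgen (zl B P) h.WU inf_le_right
  have hu : ∃ u ∈ zl B P, (∀ a ∈ A, a * u * a⁻¹ * u⁻¹ = 1 ∨ a * u * a⁻¹ * u⁻¹ = z) ∧
      ∃ a ∈ A, a * u * a⁻¹ * u⁻¹ = z := by
    by_cases hVW : V ≤ zl B P
    · obtain ⟨a, ha, hav⟩ := SetLike.not_le_iff_exists.1 hAV
      rw [mem_centralizer_iff] at hav
      push Not at hav
      obtain ⟨v, hv, hav⟩ := hav
      refine ⟨v, hVW hv, fun a ha => h.BV a (hAB ha) v hv, a, ha, ?_⟩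
      rcases h.BV a (hAB ha) v hv with e | e
      · exact absurd (mul_inv_eq_iff_eq_mul.1 (mul_inv_eq_one.1 e)).symm hav
      · exact e
    · set M := zl B P ⊔ V with hM
      have hMU : M ≤ U := sup_le h.WU h.VU
      have hMA : A' ≤ centralizer (M : Set G) := by
        have : M ≤ centralizer (A' : Set G) := sup_le (le_centralizer_iff.1 inf_le_right) (le_centralizer_iff.1 hA'V)
        exact le_centralizer_iff.1 this
      have h1 := hgen M hMU hMA
      have h2 := hno A (hAB.trans h.BP) hAe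
      -- `C_M(A) ≰ W`
      have h3 : ¬ M ⊓ centralizer (A : Set G) ≤ zl B P := by
        intro hle
        have h4 : M ⊓ centralizer (A : Set G) = zl B P ⊓ centralizer (A : Set G) :=
          le_antisymm (le_inf hle inf_le_right) (inf_le_inf_right _ le_sup_left)
        rw [h4] at h1
        have h5 : Nat.card M * Nat.card A' ≤ Nat.card (zl B P) * Nat.card A' := h1.trans h2
        have h6 := Nat.le_of_mul_le_mul_right h5 Nat.card_pos
        have h7 := Subgroup.eq_of_le_of_card_ge (le_sup_left : zl B P ≤ M) h6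
        exact hVW (h7 ▸ le_sup_right)
      obtain ⟨m, ⟨hmM, hmA⟩, hmW⟩ := SetLike.not_le_iff_exists.1 h3
      obtain ⟨w, hw, v, hv, rfl⟩ := mem_sup_comm (A := zl B P) (B := V)
        (fun v hv x hx => h.ab v (h.WU hv) x (h.VU hx)) hmM
      have hv1 : v ≠ 1 := by rintro rfl; exact hmW (by rw [mul_one]; exact hw)
      have hvz : v ≠ z := by rintro rfl; exact hmW (mul_mem hw h.zW)
      have hcom : ∀ a ∈ A, a * w * a⁻¹ * w⁻¹ = (a * v * a⁻¹ * v⁻¹)⁻¹ := by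
        intro a ha
        have h4 : a * (w * v) = (w * v) * a := comm_cent hmA ha
        have hw' : a * w * a⁻¹ ∈ zl B P := (mem_normalizer_iff.1 (h.PW (h.BP (hAB ha))) _).1 hw
        have h5 : (a * w * a⁻¹) * (a * v * a⁻¹) = w * v := by
          calc (a * w * a⁻¹) * (a * v * a⁻¹) = a * (w * v) * a⁻¹ := by group
            _ = w * v := by rw [h4]; group
        have h6 : a * w * a⁻¹ = w * v * (a * v * a⁻¹)⁻¹ := eq_mul_inv_of_mul_eq h5
        have hbv := h.BV a (hAB ha) v hv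
        have hcm : w * (v * (a * v * a⁻¹)⁻¹) = (v * (a * v * a⁻¹)⁻¹) * w := by
          have h7 : v * (a * v * a⁻¹)⁻¹ ∈ U := by
            have h8 : v * (a * v * a⁻¹)⁻¹ = (a * v * a⁻¹ * v⁻¹)⁻¹ := by group
            rw [h8]
            rcases hbv with e | e
            · rw [e, inv_one]; exact one_mem _
            · rw [e, hzz]; exact h.VU h.zV
          exact h.ab w (h.WU hw) _ h7
        calc a * w * a⁻¹ * w⁻¹ = w * (v * (a * v * a⁻¹)⁻¹) * w⁻¹ := by rw [h6]; group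
          _ = (a * v * a⁻¹ * v⁻¹)⁻¹ := by rw [hcm]; group
      refine ⟨w, hw, fun a ha => ?_, ?_⟩
      · rw [hcom a ha]
        rcases h.BV a (hAB ha) v hv with e | e
        · left; rw [e, inv_one]
        · right; rw [e, hzz]
      · by_contra hcon
        push Not at hcon
        apply hAV
        intro a ha
        refine h.cent_V hv hv1 hvz (hAB ha) ?_
        rcases h.BV a (hAB ha) v hv with e | e
        · exact mul_inv_eq_iff_eq_mul.1 (mul_inv_eq_one.1 e)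
        · exfalso
          apply hcon a ha
          rw [hcom a ha, e, hzz]
  refine ⟨A, hAB, ⟨hAe, ?_, hWle⟩, hu⟩
  intro hc
  obtain ⟨u, hu, -, a, ha, e⟩ := hu
  apply h.z1
  rw [← e, ← comm_cent (hc ha) hu]
  group

end

end Cfsg.Agent.Omega.EDel.BxN
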