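import Cfsg.Agent.Omega.GI.PLines
import Cfsg.Agent.Omega.OM.BlkGen
import Cfsg.Agent.Omega.EDel.Bx.Base

/-!
# (UNI_B) / par at any level, `q = 2` (bb OMEGA #26125, helper920): the extremal class

`B` a 2-group, `L`, `P` over `B`, `P` a minimal parabolic over its Sylow 2-subgroup `B`, `V` a four-group on which `L` is
transitive and `B` induces the transvection with centre `z`, `U` an elementary abelian normal subgroup of `⟨L, P⟩`.

* `Mn` : the extremal class; `Loc` : the frame;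
* `Loc.cut` : a member `A ≤ B` which moves `V` is a transvection group on `U = V C_U(A)`, and so is every member;
* `Loc.off`, `Loc.noOver`, `Loc.sup` : members `A ≤ B`, `A ≰ O₂(P)`: `U = W C_U(A)`, `W = zl B P`;
* `Loc.centW` : then `C_P(W)` centralises `V`;
* `Loc.exists_big` : some member `≤ B` moves `V` or is not in `O₂(P)`.
-/

set_option autoImplicit false
set_option linter.unusedSectionVars false

namespace Cfsg.Agent.Omega.EDel.BxN

open Subgroup Cfsg Cfsg.Agent.ZN.ChoiceBase Cfsg.Agent.ZN.ChoiceSit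
open Cfsg.Agent.ZN (zc zl o2)
open Cfsg.Agent.MinSimple.MinParabolic (IsMinPar)
open Cfsg.Agent.Omega.FFThm (Off NoOver)
open Cfsg.Agent.Omega.GI.PL (card_mul_relIndex relIndex_cj card_sup_mul_of_comm)

universe u

variable {G : Type u} [Group G]

/-- `|A/C_A(U)| |C_U(A)|` -/
noncomputable def ff (U A : Subgroup G) : ℕ :=
  (centralizer (U : Set G)).relIndex A * Nat.card (U ⊓ centralizer (A : Set G) : Subgroup G)

/-- the extremal class -/
structure Mn (B H U A : Subgroup G) : Prop where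
  inB : ∃ h ∈ H, A ≤ cj h B
  el : IsElementaryAbelian 2 A
  mvU : ¬ A ≤ centralizer (U : Set G)
  mx : ∀ A' : Subgroup G, (∃ h ∈ H, A' ≤ cj h B) → IsElementaryAbelian 2 A' → ¬ A' ≤ centralizer (U : Set G) →
    ff U A' ≤ ff U A
  mn : ∀ A' : Subgroup G, (∃ h ∈ H, A' ≤ cj h B) → IsElementaryAbelian 2 A' → ¬ A' ≤ centralizer (U : Set G) →
    ff U A' = ff U A → (centralizer (U : Set G)).relIndex A ≤ (centralizer (U : Set G)).relIndex A'

theorem ff_mul (U A : Subgroup G) : ff U A * Nat.card ↥(A ⊓ centralizer (U : Set G)) =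
    Nat.card A * Nat.card ↥(U ⊓ centralizer (A : Set G)) := by
  have h1 := card_mul_relIndex (inf_le_left : A ⊓ centralizer (U : Set G) ≤ A)
  rw [Subgroup.inf_relIndex_left] at h1
  unfold ff
  rw [← h1]
  ring

theorem ff_cj {g : G} {U : Subgroup G} (hg : g ∈ normalizer (U : Set G)) (A : Subgroup G) :
    ff U (cj g A) = ff U A := by
  have hU := cj_eq_of_mem_normalizer hg
  have hC : cj g (centralizer (U : Set G)) = centralizer (U : Set G) := by rw [cj_centralizer, hU]
  have h1 : (centralizer (U : Set G)).relIndex (cj g A) = (centralizer (U : Set G)).relIndex A := by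
    conv_lhs => rw [← hC]
    exact relIndex_cj g _ _
  have h2 : (U ⊓ centralizer (cj g A : Set G) : Subgroup G) = cj g (U ⊓ centralizer (A : Set G)) := by
    rw [cj_inf, hU, cj_centralizer]
  unfold ff
  rw [h1, h2, card_cj]

theorem not_le_cj {g : G} {U A : Subgroup G} (hg : g ∈ normalizer (U : Set G))
    (h : ¬ A ≤ centralizer (U : Set G)) : ¬ cj g A ≤ centralizer (U : Set G) := by
  intro h1
  apply h
  rw [cj_le_iff, cj_centralizer, cj_eq_of_mem_normalizer (inv_mem hg)] at h1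
  exact h1

theorem Mn.cj {B H U A : Subgroup G} (h : Mn B H U A) (hH : H ≤ normalizer (U : Set G)) {g : G} (hg : g ∈ H) :
    Mn B H U (ZN.ChoiceBase.cj g A) where
  inB := by
    obtain ⟨k, hk, h1⟩ := h.inB
    refine ⟨g * k, mul_mem hg hk, ?_⟩
    rw [← cj_cj]
    exact cj_mono g h1
  el := isElementaryAbelian_cj g h.el
  mvU := not_le_cj (hH hg) h.mvU
  mx := by
    intro A' h1 h2 h3
    rw [ff_cj (hH hg)]
    exact h.mx A' h1 h2 h3
  mn := by
    intro A' h1 h2 h3 h4
    rw [ff_cj (hH hg)] at h4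
    have hC : ZN.ChoiceBase.cj g (centralizer (U : Set G)) = centralizer (U : Set G) := by
      rw [cj_centralizer, cj_eq_of_mem_normalizer (hH hg)]
    have e : (centralizer (U : Set G)).relIndex (ZN.ChoiceBase.cj g A) = (centralizer (U : Set G)).relIndex A := by
      conv_lhs => rw [← hC]
      exact relIndex_cj g _ _
    rw [e]
    exact h.mn A' h1 h2 h3 h4

/-- **The local frame.** -/
structure Loc (B L P U V : Subgroup G) (z : G) : Prop where
  two : IsPGroup 2 B
  BL : B ≤ L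
  mp : IsMinPar B P
  syl : Syl B P
  ch : P ⊓ centralizer (o2 P : Set G) ≤ o2 P
  ab : ∀ x ∈ U, ∀ y ∈ U, x * y = y * x
  sq : ∀ x ∈ U, x * x = 1
  UB : U ≤ B
  nL : L ≤ normalizer (U : Set G)
  nP : P ≤ normalizer (U : Set G)
  ZU : zc B ≤ U
  gen : ∀ K : Subgroup G, K ≤ B → L ≤ normalizer (K : Set G) → P ≤ normalizer (K : Set G) →
    K ≤ centralizer (U : Set G)
  zZ : z ∈ zc B
  zP : ¬ P ≤ centralizer ({z} : Set G)
  VU : V ≤ U
  zV : z ∈ V
  V4 : Nat.card V = 4
  BV : ∀ b ∈ B, ∀ x ∈ V, b * x * b⁻¹ * x⁻¹ = 1 ∨ b * x * b⁻¹ * x⁻¹ = z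
  nV : L ≤ normalizer (V : Set G)
  tr : ∀ x ∈ V, x ≠ 1 → ∃ l ∈ L, l * z * l⁻¹ = x
  nC : L ≤ normalizer ((B ⊓ centralizer (V : Set G) : Subgroup G) : Set G)
  off : ∃ A ≤ B, IsElementaryAbelian 2 A ∧ ¬ A ≤ centralizer (V : Set G) ∧ ∀ A' ≤ A,
    Nat.card A' * Nat.card ↥(U ⊓ centralizer (A' : Set G)) ≤ Nat.card A * Nat.card ↥(U ⊓ centralizer (A : Set G))

theorem el_mono {A A' : Subgroup G} (h : IsElementaryAbelian 2 A) (hle : A' ≤ A) : IsElementaryAbelian 2 A' :=
  NO3S.EThree.ExactA.eab_mono h hle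

theorem rel_ne [Finite G] {A A' : Subgroup G} (h : A ≤ A') : A.relIndex A' ≠ 0 := by
  intro e
  have h1 := card_mul_relIndex h
  rw [e, mul_zero] at h1
  exact Nat.card_pos.ne h1

theorem comm_cent {x : G} {A : Subgroup G} (h : x ∈ centralizer (A : Set G)) {a : G} (ha : a ∈ A) : a * x = x * a :=
  mem_centralizer_iff.1 h a ha

section

variable [Finite G] {B L P U V : Subgroup G} {z : G} (h : Loc B L P U V z)
include h

theorem Loc.BP : B ≤ P := h.mp.le

theorem Loc.nH : L ⊔ P ≤ normalizer (U : Set G) := sup_le h.nL h.nP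

theorem Loc.Bc {b : G} (hb : b ∈ B) : b * z = z * b := (mem_zc.1 h.zZ).2.2 b hb

theorem Loc.z1 : z ≠ 1 := by
  rintro rfl
  exact h.zP fun p _ => mem_centralizer_singleton_iff.2 (by simp)

theorem Loc.BL' : B ≤ L ⊔ P := h.BL.trans le_sup_left

/-- members exist, and `|U| ≤ f(A)` -/
theorem Loc.exists_mn : ∃ A, Mn B (L ⊔ P) U A ∧ Nat.card U ≤ ff U A := by
  set X : Set (Subgroup G) := {A | (∃ k ∈ L ⊔ P, A ≤ ZN.ChoiceBase.cj k B) ∧ IsElementaryAbelian 2 A ∧
    ¬ A ≤ centralizer (U : Set G)} with hX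
  obtain ⟨A₀, hA₀, he, hm, ho⟩ := h.off
  have hmU : ¬ A₀ ≤ centralizer (U : Set G) := fun hc => hm (hc.trans (centralizer_le h.VU))
  have hA₀X : A₀ ∈ X := ⟨⟨1, one_mem _, by rw [cj_one]; exact hA₀⟩, he, hmU⟩
  obtain ⟨A₁, hA₁, h1⟩ := Set.exists_max_image X (fun A => ff U A) (Set.toFinite _) ⟨A₀, hA₀X⟩
  obtain ⟨A₂, ⟨hA₂, h2⟩, h3⟩ := Set.exists_min_image {A | A ∈ X ∧ ff U A = ff U A₁}
    (fun A => (centralizer (U : Set G)).relIndex A) (Set.toFinite _) ⟨A₁, hA₁, rfl⟩
  refine ⟨A₂, ⟨hA₂.1, hA₂.2.1, hA₂.2.2, fun A' h4 h4' h5 => ?_, fun A' h4 h4' h5 h6 => ?_⟩, ?_⟩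
  · rw [h2]
    exact h1 A' ⟨h4, h4', h5⟩
  · exact h3 A' ⟨⟨h4, h4', h5⟩, h6.trans h2⟩
  · have h4 : ff U A₀ ≤ ff U A₂ := by
      rw [h2]
      exact h1 A₀ hA₀X
    refine le_trans ?_ h4
    have h5 := ho (A₀ ⊓ centralizer (U : Set G)) inf_le_left
    have h6 : U ⊓ centralizer ((A₀ ⊓ centralizer (U : Set G) : Subgroup G) : Set G) = U := by
      refine inf_eq_left.2 ?_
      intro u hu
      rw [mem_centralizer_iff]
      exact fun a ha => (comm_cent ha.2 hu).symm
    rw [h6, ← ff_mul U A₀, Nat.mul_comm] at h5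
    exact Nat.le_of_mul_le_mul_right h5 Nat.card_pos

theorem Mn.card_le {A : Subgroup G} (hA : Mn B (L ⊔ P) U A) : Nat.card U ≤ ff U A := by
  obtain ⟨A₁, h1, h2⟩ := h.exists_mn
  exact h2.trans (hA.mx A₁ h1.inB h1.el h1.mvU)

/-- a subgroup of a member inside `B` -/
theorem Mn.sub {A A' : Subgroup G} (hA : Mn B (L ⊔ P) U A) (hAA : A' ≤ A) (hm : ¬ A' ≤ centralizer (U : Set G)) :
    Nat.card A' * Nat.card ↥(U ⊓ centralizer (A' : Set G)) ≤ Nat.card A * Nat.card ↥(U ⊓ centralizer (A : Set G)) ∨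
      False := by
  left
  obtain ⟨k, hk, h1⟩ := hA.inB
  have h2 := hA.mx A' ⟨k, hk, hAA.trans h1⟩ (el_mono hA.el hAA) hm
  rw [← ff_mul, ← ff_mul]
  exact Nat.mul_le_mul h2 (Subgroup.card_le_of_le (inf_le_inf_right _ hAA))

/-- **LINE CUT** -/
theorem Loc.cut {A : Subgroup G} (hA : Mn B (L ⊔ P) U A) (hAB : A ≤ B) (hm : ¬ A ≤ centralizer (V : Set G)) :
    (centralizer (U : Set G)).relIndex A = 2 ∧ ff U A = Nat.card U ∧ Nat.card U = 2 * Nat.card ↥(U ⊓ centralizer (A : Set G)) := by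
  set A₀ := A ⊓ centralizer (V : Set G) with hA₀
  have hC : centralizer (U : Set G) ≤ centralizer (V : Set G) := centralizer_le h.VU
  -- `|A : A₀| = 2`
  obtain ⟨a, ha, ham⟩ := SetLike.not_le_iff_exists.1 hm
  have hV4 := h.V4
  -- products of two elements outside are inside
  have hprod : ∀ x ∈ A, ∀ y ∈ A, x ∉ centralizer (V : Set G) → y ∉ centralizer (V : Set G) →
      x * y ∈ centralizer (V : Set G) := by
    intro x hx y hy hxn hyn
    rw [mem_centralizer_iff] at hxn hyn ⊢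
    push Not at hxn hyn
    obtain ⟨v, hv, hvx⟩ := hxn
    obtain ⟨w, hw, hwy⟩ := hyn
    have hxB := hAB hx
    have hyB := hAB hy
    have hxv : x * v * x⁻¹ = z * v := by
      rcases h.BV x hxB v hv with e | e
      · exact absurd (mul_inv_eq_iff_eq_mul.1 (mul_inv_eq_one.1 e)).symm hvx
      · exact mul_inv_eq_iff_eq_mul.1 e
    have hyw : y * w * y⁻¹ = z * w := by
      rcases h.BV y hyB w hw with e | e
      · exact absurd (mul_inv_eq_iff_eq_mul.1 (mul_inv_eq_one.1 e)).symm hwy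
      · exact mul_inv_eq_iff_eq_mul.1 e
    have hsqV : ∀ t ∈ V, t ^ 2 = 1 := fun t ht => by rw [pow_two]; exact h.sq t (h.VU ht)
    have hv1 : v ≠ 1 := by rintro rfl; exact hvx (by simp)
    have hvz : v ≠ z := by rintro rfl; exact hvx (h.Bc hxB).symm
    have hw1 : w ≠ 1 := by rintro rfl; exact hwy (by simp)
    have hwz : w ≠ z := by rintro rfl; exact hwy (h.Bc hyB).symm
    have hzc : ∀ b ∈ B, b * z * b⁻¹ = z := fun b hb => by rw [h.Bc hb]; group
    have hyv : y * v * y⁻¹ = z * v := by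
      rcases NO3S.eq_of_card_four hV4 hsqV h.zV h.z1 hw hw1 (Ne.symm hwz) hv hv1 with e | e | e
      · exact absurd e hvz
      · rw [e]; exact hyw
      · rw [e]
        calc y * (z * w) * y⁻¹ = (y * z * y⁻¹) * (y * w * y⁻¹) := by group
          _ = z * (z * w) := by rw [hzc y hyB, hyw]
    have key : ∀ t ∈ V, (x * y) * t * (x * y)⁻¹ = t := by
      have hzz : z * z = 1 := h.sq z (h.VU h.zV)
      have hxyv : (x * y) * v * (x * y)⁻¹ = v := by
        calc (x * y) * v * (x * y)⁻¹ = x * (y * v * y⁻¹) * x⁻¹ := by group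
          _ = (x * z * x⁻¹) * (x * v * x⁻¹) := by rw [hyv]; group
          _ = z * (z * v) := by rw [hzc x hxB, hxv]
          _ = v := by rw [← mul_assoc, hzz, one_mul]
      have hxyz : (x * y) * z * (x * y)⁻¹ = z := hzc _ (mul_mem hxB hyB)
      intro t ht
      by_cases ht1 : t = 1
      · rw [ht1]; group
      rcases NO3S.eq_of_card_four hV4 hsqV h.zV h.z1 hv hv1 (Ne.symm hvz) ht ht1 with e | e | e
      · rw [e]; exact hxyz
      · rw [e]; exact hxyv
      · rw [e]
        calc (x * y) * (z * v) * (x * y)⁻¹ = ((x * y) * z * (x * y)⁻¹) * ((x * y) * v * (x * y)⁻¹) := by group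
          _ = z * v := by rw [hxyz, hxyv]
    intro t ht
    exact (mul_inv_eq_iff_eq_mul.1 (key t ht)).symm
  have hidx : A₀.relIndex A ≤ 2 := by
    by_contra hcon
    push Not at hcon
    have h1 : (A₀.subgroupOf A).index = Nat.card (A ⧸ A₀.subgroupOf A) := index_eq_card _
    have hsurj : Function.Surjective (fun b : Bool =>
        (QuotientGroup.mk (if b then (1 : A) else ⟨a⁻¹, inv_mem ha⟩) : A ⧸ A₀.subgroupOf A)) := by
      intro q
      induction q using QuotientGroup.induction_on with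
      | H x =>
        by_cases hx : (x : G) ∈ centralizer (V : Set G)
        · refine ⟨true, ?_⟩
          simp only [if_true]
          rw [QuotientGroup.eq, mem_subgroupOf]
          have e : (((1 : A)⁻¹ * x : A) : G) = x := by simp
          rw [e]
          exact mem_inf.2 ⟨x.2, hx⟩
        · refine ⟨false, ?_⟩
          simp only [Bool.false_eq_true, if_false]
          rw [QuotientGroup.eq, mem_subgroupOf]
          have h2 := hprod a ha x x.2 ham hx
          have e : (((⟨a⁻¹, inv_mem ha⟩ : A)⁻¹ * x : A) : G) = a * x := by simp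
          rw [e]
          exact mem_inf.2 ⟨mul_mem ha x.2, h2⟩
    have h3 := Nat.card_le_card_of_surjective _ hsurj
    rw [Nat.card_eq_fintype_card (α := Bool), Fintype.card_bool, ← h1] at h3
    change 2 < (A₀.subgroupOf A).index at hcon
    omega
  have hcA : Nat.card A ≤ 2 * Nat.card A₀ := by
    have h1 := card_mul_relIndex (inf_le_left : A₀ ≤ A)
    rw [← h1, Nat.mul_comm]
    exact Nat.mul_le_mul_right _ hidx
  -- `C_U(A) < C_U(A₀)`
  have hCU : 2 * Nat.card ↥(U ⊓ centralizer (A : Set G)) ≤ Nat.card ↥(U ⊓ centralizer (A₀ : Set G)) := by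
    have h1 : U ⊓ centralizer (A : Set G) ≤ U ⊓ centralizer (A₀ : Set G) :=
      inf_le_inf_left _ (centralizer_le inf_le_left)
    have h2 : U ⊓ centralizer (A : Set G) ≠ U ⊓ centralizer (A₀ : Set G) := by
      intro e
      have h3 : V ≤ U ⊓ centralizer (A₀ : Set G) := le_inf h.VU fun v hv => by
        rw [mem_centralizer_iff]
        intro x hx
        exact (comm_cent hx.2 hv).symm
      rw [← e] at h3
      exact hm fun x hx => mem_centralizer_iff.2 fun v hv => (comm_cent (h3 hv).2 hx).symm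
    have h3 := card_mul_relIndex h1
    have h4 : (U ⊓ centralizer (A : Set G)).relIndex (U ⊓ centralizer (A₀ : Set G)) ≠ 1 := by
      rw [Ne, relIndex_eq_one]
      exact fun h5 => h2 (le_antisymm h1 h5)
    have h5 : (U ⊓ centralizer (A : Set G)).relIndex (U ⊓ centralizer (A₀ : Set G)) ≠ 0 := rel_ne h1
    have h6 : 2 ≤ (U ⊓ centralizer (A : Set G)).relIndex (U ⊓ centralizer (A₀ : Set G)) := by omega
    rw [← h3, Nat.mul_comm]
    exact Nat.mul_le_mul_left _ h6
  have hinf : A₀ ⊓ centralizer (U : Set G) = A ⊓ centralizer (U : Set G) := by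
    rw [hA₀, inf_assoc, inf_eq_right.2 hC]
  obtain ⟨k, hk, hkB⟩ := hA.inB
  -- `A₀` centralises `U`
  have hA₀U : A₀ ≤ centralizer (U : Set G) := by
    by_contra hmU
    have h1 := hA.mx A₀ ⟨k, hk, inf_le_left.trans hkB⟩ (el_mono hA.el inf_le_left) hmU
    have h2 : ff U A ≤ ff U A₀ := by
      refine Nat.le_of_mul_le_mul_right ?_ (Nat.card_pos : 0 < Nat.card ↥(A ⊓ centralizer (U : Set G)))
      calc ff U A * Nat.card ↥(A ⊓ centralizer (U : Set G)) = Nat.card A * Nat.card ↥(U ⊓ centralizer (A : Set G)) := ff_mul U A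
        _ ≤ (2 * Nat.card A₀) * Nat.card ↥(U ⊓ centralizer (A : Set G)) := Nat.mul_le_mul_right _ hcA
        _ = Nat.card A₀ * (2 * Nat.card ↥(U ⊓ centralizer (A : Set G))) := by ring
        _ ≤ Nat.card A₀ * Nat.card ↥(U ⊓ centralizer (A₀ : Set G)) := Nat.mul_le_mul_left _ hCU
        _ = ff U A₀ * Nat.card ↥(A₀ ⊓ centralizer (U : Set G)) := (ff_mul U A₀).symm
        _ = ff U A₀ * Nat.card ↥(A ⊓ centralizer (U : Set G)) := by rw [hinf]
    have h3 := hA.mn A₀ ⟨k, hk, inf_le_left.trans hkB⟩ (el_mono hA.el inf_le_left) hmU (le_antisymm h1 h2)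
    have h4 := card_mul_relIndex (inf_le_left : A ⊓ centralizer (U : Set G) ≤ A)
    have h5 := card_mul_relIndex (inf_le_left : A₀ ⊓ centralizer (U : Set G) ≤ A₀)
    rw [Subgroup.inf_relIndex_left] at h4 h5
    rw [hinf] at h5
    have h6 : Nat.card A ≤ Nat.card A₀ := by
      rw [← h4, ← h5]
      exact Nat.mul_le_mul_left _ h3
    have h7 := Subgroup.eq_of_le_of_card_ge (inf_le_left : A₀ ≤ A) h6
    exact hm (h7 ▸ inf_le_right)
  have h1 : (centralizer (U : Set G)).relIndex A = 2 := by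
    have h2 : A₀ = A ⊓ centralizer (U : Set G) := le_antisymm (le_inf inf_le_left hA₀U) (inf_le_inf_left _ hC)
    have h3 : A₀.relIndex A ≠ 1 := by
      rw [Ne, relIndex_eq_one]
      exact fun h4 => hm (h4.trans inf_le_right)
    have h4 : A₀.relIndex A ≠ 0 := rel_ne inf_le_left
    rw [← Subgroup.inf_relIndex_left, ← h2]
    omega
  have h2 := Mn.card_le h hA
  have h3 : ff U A = 2 * Nat.card ↥(U ⊓ centralizer (A : Set G)) := by
    unfold ff
    rw [h1]
  have h4 := card_mul_relIndex (inf_le_left : U ⊓ centralizer (A : Set G) ≤ U)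
  have h5 : (U ⊓ centralizer (A : Set G)).relIndex U ≠ 1 := by
    rw [Ne, relIndex_eq_one]
    intro h6
    exact hA.mvU fun x hx => mem_centralizer_iff.2 fun u hu => (comm_cent (h6 hu).2 hx).symm
  have h6 : (U ⊓ centralizer (A : Set G)).relIndex U ≠ 0 := rel_ne inf_le_left
  have h7 : 2 ≤ (U ⊓ centralizer (A : Set G)).relIndex U := by omega
  have h8 : 2 * Nat.card ↥(U ⊓ centralizer (A : Set G)) ≤ Nat.card U := by
    calc _ = Nat.card ↥(U ⊓ centralizer (A : Set G)) * 2 := by ring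
      _ ≤ Nat.card ↥(U ⊓ centralizer (A : Set G)) * (U ⊓ centralizer (A : Set G)).relIndex U := Nat.mul_le_mul_left _ h7
      _ = _ := h4
  refine ⟨h1, ?_, ?_⟩ <;> omega

/-- the transvection class: if one member `≤ B` moves `V`, all members have order 2 and index 2 -/
theorem Loc.all {A₁ : Subgroup G} (hA₁ : Mn B (L ⊔ P) U A₁) (hAB : A₁ ≤ B) (hm : ¬ A₁ ≤ centralizer (V : Set G))
    {A : Subgroup G} (hA : Mn B (L ⊔ P) U A) :
    (centralizer (U : Set G)).relIndex A = 2 ∧ Nat.card U = 2 * Nat.card ↥(U ⊓ centralizer (A : Set G)) := by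
  obtain ⟨h1, h2, h3⟩ := h.cut hA₁ hAB hm
  have h4 : ff U A = ff U A₁ := le_antisymm (hA₁.mx A hA.inB hA.el hA.mvU) (hA.mx A₁ hA₁.inB hA₁.el hA₁.mvU)
  have h5 := hA₁.mn A hA.inB hA.el hA.mvU h4
  have h6 := hA.mn A₁ hA₁.inB hA₁.el hA₁.mvU h4.symm
  have h7 : (centralizer (U : Set G)).relIndex A = 2 := by omega
  refine ⟨h7, ?_⟩
  have h8 : ff U A = 2 * Nat.card ↥(U ⊓ centralizer (A : Set G)) := by
    unfold ff
    rw [h7]
  omega

/-- **some member `≤ B` moves `V` or is not in `O₂(P)`** -/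
theorem Loc.exists_big : ∃ A ≤ B, Mn B (L ⊔ P) U A ∧ (¬ A ≤ centralizer (V : Set G) ∨ ¬ A ≤ o2 P) := by
  by_contra hc
  push Not at hc
  set K : Subgroup G := sSup {A | A ≤ B ∧ Mn B (L ⊔ P) U A} with hK
  have hKB : K ≤ B := sSup_le fun A hA => hA.1
  have hL : L ≤ normalizer (K : Set G) := by
    intro l hl
    refine mem_normalizer_of_cj_le ?_
    rw [cj_le_iff]
    refine sSup_le fun A hA => ?_
    rw [← cj_le_iff]
    refine le_sSup ⟨?_, hA.2.cj h.nH (mem_sup_left hl)⟩
    have h1 : ZN.ChoiceBase.cj l A ≤ ZN.ChoiceBase.cj l (B ⊓ centralizer (V : Set G)) :=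
      cj_mono l (le_inf hA.1 (hc A hA.1 hA.2).1)
    rw [cj_eq_of_mem_normalizer (h.nC hl)] at h1
    exact h1.trans inf_le_left
  have hP : P ≤ normalizer (K : Set G) := by
    intro p hp
    refine mem_normalizer_of_cj_le ?_
    rw [cj_le_iff]
    refine sSup_le fun A hA => ?_
    rw [← cj_le_iff]
    refine le_sSup ⟨?_, hA.2.cj h.nH (mem_sup_right hp)⟩
    have h1 := cj_mono p (hc A hA.1 hA.2).2
    rw [cj_eq_of_mem_normalizer (MinSimple.VModule.le_normalizer_o2 P hp)] at h1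
    exact h1.trans (o2_le_syl h.syl)
  have h1 := h.gen K hKB hL hP
  obtain ⟨A, hA, -⟩ := h.exists_mn
  obtain ⟨k, hk, h2⟩ := hA.inB
  have h3 : ZN.ChoiceBase.cj k⁻¹ A ≤ B := by rw [cj_le_iff, inv_inv]; exact h2
  have h4 := hA.cj h.nH (inv_mem hk)
  exact h4.mvU ((le_sSup ⟨h3, h4⟩ : _ ≤ K).trans h1)

/-! ### Members outside `O₂(P)` -/

theorem Loc.zP' : ¬ P ≤ centralizer (zc B : Set G) := fun hc =>
  h.zP (hc.trans (centralizer_le (Set.singleton_subset_iff.2 h.zZ)))

theorem Loc.QC : B ⊓ centralizer (zl B P : Set G) ≤ o2 P := OM.BlkGen.inf_cent h.syl h.mp h.zP'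

theorem Loc.zW : z ∈ zl B P := (MinSimple.VModule.zc_le_zl B P) h.zZ

theorem Loc.PW : P ≤ normalizer (zl B P : Set G) := MinSimple.VModule.le_normalizer_zl B P

theorem Loc.WU : zl B P ≤ U := by
  refine iSup_le fun x => ?_
  have h1 := cj_mono (x : G) h.ZU
  rwa [cj_eq_of_mem_normalizer (h.nP x.2)] at h1

/-- `|W| |C_U(A)| = |W C_U(A)| |C_W(A)|` -/
theorem Loc.card_W (A : Subgroup G) : Nat.card ↥(zl B P ⊔ (U ⊓ centralizer (A : Set G))) *
    Nat.card ↥(zl B P ⊓ centralizer (A : Set G)) = Nat.card (zl B P) * Nat.card ↥(U ⊓ centralizer (A : Set G)) := by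
  have h1 := card_sup_mul_of_comm (K := zl B P) (L := U ⊓ centralizer (A : Set G))
    fun a ha b hb => h.ab a (h.WU ha) b hb.1
  have h2 : zl B P ⊓ (U ⊓ centralizer (A : Set G)) = zl B P ⊓ centralizer (A : Set G) := by
    rw [← inf_assoc, inf_eq_left.2 h.WU]
  rwa [h2] at h1

theorem Loc.supC (A : Subgroup G) : zl B P ⊔ (U ⊓ centralizer (A : Set G)) ≤
    U ⊓ centralizer ((A ⊓ centralizer (zl B P : Set G) : Subgroup G) : Set G) := by
  refine sup_le (le_inf h.WU fun w hw => ?_) (inf_le_inf_left _ (centralizer_le inf_le_left))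
  rw [mem_centralizer_iff]
  exact fun a ha => (comm_cent ha.2 hw).symm

theorem Loc.offW {A : Subgroup G} (hA : Mn B (L ⊔ P) U A) (hAB : A ≤ B) (hAO : ¬ A ≤ o2 P) : Off (zl B P) A := by
  refine ⟨hA.el, fun hc => hAO ((le_inf hAB hc).trans h.QC), ?_⟩
  set A' := A ⊓ centralizer (zl B P : Set G) with hA'
  have hW := h.card_W A
  have hp : 0 < Nat.card ↥(U ⊓ centralizer (A : Set G)) := Nat.card_pos
  refine Nat.le_of_mul_le_mul_right ?_ hp
  by_cases hm : A' ≤ centralizer (U : Set G)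
  · have hinf : A' = A ⊓ centralizer (U : Set G) :=
      le_antisymm (le_inf inf_le_left hm) (inf_le_inf_left _ (centralizer_le h.WU))
    have h1 := Mn.card_le h hA
    have h2 : Nat.card U * Nat.card A' ≤ Nat.card A * Nat.card ↥(U ⊓ centralizer (A : Set G)) := by
      rw [← ff_mul, hinf]
      exact Nat.mul_le_mul_right _ h1
    have h3 : Nat.card ↥(zl B P ⊔ (U ⊓ centralizer (A : Set G))) ≤ Nat.card U :=
      Subgroup.card_le_of_le (sup_le h.WU inf_le_left)
    calc Nat.card (zl B P) * Nat.card A' * Nat.card ↥(U ⊓ centralizer (A : Set G))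
        = Nat.card A' * (Nat.card (zl B P) * Nat.card ↥(U ⊓ centralizer (A : Set G))) := by ring
      _ = Nat.card A' * (Nat.card ↥(zl B P ⊔ (U ⊓ centralizer (A : Set G))) *
          Nat.card ↥(zl B P ⊓ centralizer (A : Set G))) := by rw [hW]
      _ ≤ Nat.card A' * (Nat.card U * Nat.card ↥(zl B P ⊓ centralizer (A : Set G))) :=
          Nat.mul_le_mul_left _ (Nat.mul_le_mul_right _ h3)
      _ = (Nat.card U * Nat.card A') * Nat.card ↥(zl B P ⊓ centralizer (A : Set G)) := by ring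
      _ ≤ (Nat.card A * Nat.card ↥(U ⊓ centralizer (A : Set G))) * Nat.card ↥(zl B P ⊓ centralizer (A : Set G)) :=
          Nat.mul_le_mul_right _ h2
      _ = _ := by ring
  · have h2 := (Mn.sub h hA (inf_le_left : A' ≤ A) hm).resolve_right id
    have h3 := Subgroup.card_le_of_le (h.supC A)
    calc Nat.card (zl B P) * Nat.card A' * Nat.card ↥(U ⊓ centralizer (A : Set G))
        = Nat.card A' * (Nat.card (zl B P) * Nat.card ↥(U ⊓ centralizer (A : Set G))) := by ring
      _ = Nat.card A' * (Nat.card ↥(zl B P ⊔ (U ⊓ centralizer (A : Set G))) *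
          Nat.card ↥(zl B P ⊓ centralizer (A : Set G))) := by rw [hW]
      _ ≤ Nat.card A' * (Nat.card ↥(U ⊓ centralizer (A' : Set G)) * Nat.card ↥(zl B P ⊓ centralizer (A : Set G))) :=
          Nat.mul_le_mul_left _ (Nat.mul_le_mul_right _ h3)
      _ = (Nat.card A' * Nat.card ↥(U ⊓ centralizer (A' : Set G))) * Nat.card ↥(zl B P ⊓ centralizer (A : Set G)) := by
          ring
      _ ≤ (Nat.card A * Nat.card ↥(U ⊓ centralizer (A : Set G))) * Nat.card ↥(zl B P ⊓ centralizer (A : Set G)) :=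
          Nat.mul_le_mul_right _ h2
      _ = _ := by ring

/-- `U = W C_U(A)` -/
theorem Loc.sup (hno : NoOver (zl B P) P) {A : Subgroup G} (hA : Mn B (L ⊔ P) U A) (hAB : A ≤ B)
    (hAO : ¬ A ≤ o2 P) : zl B P ⊔ (U ⊓ centralizer (A : Set G)) = U := by
  have hof := h.offW hA hAB hAO
  set A' := A ⊓ centralizer (zl B P : Set G) with hA'
  have hW := h.card_W A
  have hn := hno A (hAB.trans h.BP) hA.el
  have hp : 0 < Nat.card ↥(U ⊓ centralizer (A : Set G)) := Nat.card_pos
  have hp' : 0 < Nat.card ↥(zl B P ⊓ centralizer (A : Set G)) := Nat.card_pos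
  obtain ⟨k, hk, hkB⟩ := hA.inB
  have hinf' : A' ⊓ centralizer (U : Set G) = A ⊓ centralizer (U : Set G) := by
    rw [hA', inf_assoc, inf_eq_right.2 (centralizer_le h.WU)]
  have hm : A' ≤ centralizer (U : Set G) := by
    by_contra hm
    have h1 := hA.mx A' ⟨k, hk, inf_le_left.trans hkB⟩ (el_mono hA.el inf_le_left) hm
    have h2 : ff U A' ≠ ff U A := by
      intro e
      have h3 := hA.mn A' ⟨k, hk, inf_le_left.trans hkB⟩ (el_mono hA.el inf_le_left) hm e
      have h4 := card_mul_relIndex (inf_le_left : A ⊓ centralizer (U : Set G) ≤ A)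
      have h5 := card_mul_relIndex (inf_le_left : A' ⊓ centralizer (U : Set G) ≤ A')
      rw [Subgroup.inf_relIndex_left] at h4 h5
      rw [hinf'] at h5
      have h6 : Nat.card A ≤ Nat.card A' := by
        rw [← h4, ← h5]
        exact Nat.mul_le_mul_left _ h3
      have h7 := Subgroup.eq_of_le_of_card_ge (inf_le_left : A' ≤ A) h6
      exact hof.ne (h7 ▸ inf_le_right)
    have h3 : ff U A' < ff U A := lt_of_le_of_ne h1 h2
    have h4 : Nat.card A' * Nat.card ↥(U ⊓ centralizer (A' : Set G)) <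
        Nat.card A * Nat.card ↥(U ⊓ centralizer (A : Set G)) := by
      rw [← ff_mul, ← ff_mul, hinf']
      exact Nat.mul_lt_mul_of_pos_right h3 Nat.card_pos
    have h5 := Subgroup.card_le_of_le (h.supC A)
    have h6 : Nat.card (zl B P) * Nat.card A' * Nat.card ↥(U ⊓ centralizer (A : Set G)) <
        (Nat.card A * Nat.card ↥(zl B P ⊓ centralizer (A : Set G))) * Nat.card ↥(U ⊓ centralizer (A : Set G)) := by
      calc Nat.card (zl B P) * Nat.card A' * Nat.card ↥(U ⊓ centralizer (A : Set G))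
          = Nat.card A' * (Nat.card (zl B P) * Nat.card ↥(U ⊓ centralizer (A : Set G))) := by ring
        _ = Nat.card A' * (Nat.card ↥(zl B P ⊔ (U ⊓ centralizer (A : Set G))) *
            Nat.card ↥(zl B P ⊓ centralizer (A : Set G))) := by rw [hW]
        _ ≤ Nat.card A' * (Nat.card ↥(U ⊓ centralizer (A' : Set G)) * Nat.card ↥(zl B P ⊓ centralizer (A : Set G))) :=
            Nat.mul_le_mul_left _ (Nat.mul_le_mul_right _ h5)
        _ = (Nat.card A' * Nat.card ↥(U ⊓ centralizer (A' : Set G))) * Nat.card ↥(zl B P ⊓ centralizer (A : Set G)) := by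
            ring
        _ < (Nat.card A * Nat.card ↥(U ⊓ centralizer (A : Set G))) * Nat.card ↥(zl B P ⊓ centralizer (A : Set G)) :=
            Nat.mul_lt_mul_of_pos_right h4 hp'
        _ = _ := by ring
    have h7 := Nat.lt_of_mul_lt_mul_right h6
    exact absurd hn (not_le.2 h7)
  have hinf : A' = A ⊓ centralizer (U : Set G) :=
    le_antisymm (le_inf inf_le_left hm) (inf_le_inf_left _ (centralizer_le h.WU))
  have h1 := Mn.card_le h hA
  have h2 : Nat.card U * Nat.card A' ≤ Nat.card A * Nat.card ↥(U ⊓ centralizer (A : Set G)) := by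
    rw [← ff_mul, hinf]
    exact Nat.mul_le_mul_right _ h1
  refine Subgroup.eq_of_le_of_card_ge (sup_le h.WU inf_le_left) ?_
  refine Nat.le_of_mul_le_mul_right (c := Nat.card A' * Nat.card ↥(zl B P ⊓ centralizer (A : Set G))) ?_
    (Nat.mul_pos Nat.card_pos hp')
  calc Nat.card U * (Nat.card A' * Nat.card ↥(zl B P ⊓ centralizer (A : Set G)))
      = (Nat.card U * Nat.card A') * Nat.card ↥(zl B P ⊓ centralizer (A : Set G)) := by ring
    _ ≤ (Nat.card A * Nat.card ↥(U ⊓ centralizer (A : Set G))) * Nat.card ↥(zl B P ⊓ centralizer (A : Set G)) :=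
        Nat.mul_le_mul_right _ h2
    _ = (Nat.card A * Nat.card ↥(zl B P ⊓ centralizer (A : Set G))) * Nat.card ↥(U ⊓ centralizer (A : Set G)) := by ring
    _ ≤ (Nat.card (zl B P) * Nat.card A') * Nat.card ↥(U ⊓ centralizer (A : Set G)) := Nat.mul_le_mul_right _ hn
    _ = Nat.card A' * (Nat.card (zl B P) * Nat.card ↥(U ⊓ centralizer (A : Set G))) := by ring
    _ = Nat.card A' * (Nat.card ↥(zl B P ⊔ (U ⊓ centralizer (A : Set G))) *
        Nat.card ↥(zl B P ⊓ centralizer (A : Set G))) := by rw [hW]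
    _ = _ := by ring

end

end Cfsg.Agent.Omega.EDel.BxN
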