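import Cfsg.Agent.Omega.FF.GlobEnd
import Cfsg.Agent.Omega.F4.Split
import Cfsg.Agent.Omega.NatPair.NormLev
import Cfsg.Agent.Omega.NoFF.LinesPlug
import Cfsg.Agent.Omega.EDel.BxN.Act

/-!
# A fixed vector which is a commutator group of an offender (helper23 #25626 (3))

`T` Sylow in the minimal parabolic `H` of characteristic 2, `A ≤ T` an offender on `W = zl T H`, `z ∈ Ω₁(Z(T))` moved by `H`,
`u ∈ W`, `[u, A] = ⟨z⟩`. Then `H` has one block `SL₂(2)`: `|T : O₂(H)| = 2`.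

* `one_blk`.
-/

set_option autoImplicit false
set_option linter.unusedSectionVars false

namespace Cfsg.Agent.Omega.EDel.BxN

open Subgroup Cfsg Cfsg.Agent.ZN.ChoiceBase Cfsg.Agent.ZN.ChoiceSit
open Cfsg.Agent.ZN (zc zl o2)
open Cfsg.Agent.MinSimple.MinParabolic (IsMinPar)
open Cfsg.Agent.MinSimple.VModule (oddGen)
open Cfsg.Agent.Omega.FFThm
open Cfsg.Agent.Omega.FrameFF (cv)
open Cfsg.Agent.Omega.NatPair (ap)
open Cfsg.Agent.Lib.SL2Mat

universe u

variable {G : Type u} [Group G]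

/-- `1`, `2` commutator values -/
structure Cm (A : Subgroup G) (z u : G) : Prop where
  one : ∀ a ∈ A, a * u * a⁻¹ * u⁻¹ = 1 ∨ a * u * a⁻¹ * u⁻¹ = z
  two : ∃ a ∈ A, a * u * a⁻¹ * u⁻¹ = z

section

variable [Finite G] {T H A : Subgroup G} {z u : G}

theorem norm_cv : H ≤ normalizer (cv T H : Set G) := by
  intro g hg
  refine mem_normalizer_of_cj_le ?_
  rintro _ ⟨v, hv, rfl⟩
  exact SQ1.FFOf.cv_norm g hg v hv

theorem norm_zl : H ≤ normalizer (zl T H : Set G) := MinSimple.VModule.le_normalizer_zl T H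

theorem not_cv (hT : Syl T H) (hz : z ∈ zc T) (hzH : ¬ H ≤ centralizer ({z} : Set G)) : z ∉ cv T H := by
  intro h1
  apply hzH
  have h2 := NoFF.LinesPlug.oddGen_sup hT.1 (syl_not_dvd hT)
  rw [← h2]
  refine sup_le (fun x hx => ?_) fun x hx => ?_
  · rw [mem_centralizer_singleton_iff]
    exact mem_centralizer_iff.1 h1.2 x hx
  · rw [mem_centralizer_singleton_iff]
    exact (mem_zc.1 hz).2.2 x hx

theorem zpow_le {x : G} {W : Subgroup G} (hx : x ∈ W) : zpowers x ≤ W := zpowers_le.2 hx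

/-- **the natural case** -/
theorem nat_case {F : Type} [Field F] [CharP F 2] {k : ℕ} (N : NatKM F T H (zl T H) (cv T H) k)
    (hT : Syl T H) (hAT : A ≤ T) (ho : OffM (zl T H) A)
    (hz : z ∈ zc T) (hzD : z ∉ cv T H) (hu : u ∈ zl T H) (hc : Cm A z u)
    (hdich : ∀ M : Subgroup G, M ≤ H → H ≤ normalizer (M : Set G) → M ⊔ T = H ∨ T ⊓ M ≤ o2 H) :
    ∀ b ∈ T, ∀ b' ∈ T, b ∉ o2 H → b' ∉ o2 H → b * b'⁻¹ ∈ o2 H := by
  have hzW : z ∈ zl T H := (MinSimple.VModule.zc_le_zl T H) hz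
  have hWn : ∀ g ∈ H, ∀ w ∈ zl T H, g * w * g⁻¹ ∈ zl T H := fun g hg w hw => (mem_normalizer_iff.1 (norm_zl hg) w).1 hw
  have hchar : ∀ x : F, x + x = 0 := fun x => CharTwo.add_self_eq_zero x
  have he1 : N.e 1 = 0 := by
    have h1 := N.mul 1 (one_mem _) 1 (one_mem _)
    rw [mul_one] at h1
    exact left_eq_add.1 h1
  have heinv : ∀ w ∈ zl T H, N.e w⁻¹ = N.e w := by
    intro w hw
    have h1 := N.mul w hw w⁻¹ (inv_mem hw)
    rw [mul_inv_cancel, he1] at h1
    have h2 : N.e w + N.e w = 0 := by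
      funext i j
      exact hchar _
    have h3 : N.e w + N.e w⁻¹ = N.e w + N.e w := h1.symm.trans h2.symm
    exact add_left_cancel h3
  have hecom : ∀ g ∈ H, ∀ w ∈ zl T H, N.e (g * w * g⁻¹ * w⁻¹) = N.e (g * w * g⁻¹) + N.e w := by
    intro g hg w hw
    rw [N.mul _ (hWn g hg w hw) _ (inv_mem hw), heinv w hw]
  have hez : N.e z ≠ 0 := fun h1 => hzD ((N.ker z hzW).1 h1)
  obtain ⟨I, hI1, hI2⟩ := N.offM A hAT ho
  -- commutator of a root element with `u`
  have hroot : ∀ a ∈ A, ∀ b : Fin k → F, ActsSL N.e (zl T H) (cv T H) a (fun i => up (b i)) → ∀ i,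
      N.e (a * u * a⁻¹ * u⁻¹) i = ![b i * N.e u i 1, 0] := by
    intro a ha b hb i
    rw [hecom a (hT.1 (hAT ha)) u hu]
    have h1 := hb.1 u hu i
    rw [NatPair.NormLev.Co.ap_up] at h1
    show N.e (a * u * a⁻¹) i + N.e u i = _
    rw [h1]
    funext j
    fin_cases j
    · show (N.e u i 0 + b i * N.e u i 1) + N.e u i 0 = b i * N.e u i 1
      calc _ = b i * N.e u i 1 + (N.e u i 0 + N.e u i 0) := by ring
        _ = _ := by rw [hchar, add_zero]
    · show N.e u i 1 + N.e u i 1 = 0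
      exact hchar _
  obtain ⟨a, ha, haz⟩ := hc.two
  obtain ⟨b, hb0, hbA⟩ := hI1 a ha
  have hz1 := hroot a ha b hbA
  rw [haz] at hz1
  obtain ⟨i₀, hi₀⟩ : ∃ i, b i * N.e u i 1 ≠ 0 := by
    by_contra hcon
    push Not at hcon
    apply hez
    funext i j
    rw [hz1 i, hcon i]
    fin_cases j <;> rfl
  have hy : N.e u i₀ 1 ≠ 0 := right_ne_zero_of_mul hi₀
  have hiI : i₀ ∈ I := by
    by_contra hcon
    exact hi₀ (by rw [hb0 i₀ hcon, zero_mul])
  classical
  have hsingle : ∀ c : F, c ≠ 0 → ∀ i, N.e z i = ![(Pi.single i₀ c : Fin k → F) i * N.e u i 1, 0] := by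
    intro c hc0 i
    have hs : ∀ i, i ∉ I → (Pi.single i₀ c : Fin k → F) i = 0 := by
      intro i hi
      have hne : i ≠ i₀ := by
        rintro rfl
        exact hi hiI
      simp [Pi.single_apply, hne]
    obtain ⟨a', ha', hA'⟩ := hI2 (Pi.single i₀ c) hs
    have h1 := hroot a' ha' _ hA'
    rcases hc.one a' ha' with h2 | h2
    · exfalso
      have h3 := congrFun (h1 i₀) 0
      rw [h2, he1] at h3
      simp only [Pi.single_eq_same] at h3
      exact mul_ne_zero hc0 hy h3.symm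
    · rw [← h1 i, h2]
  have hF : ∀ c : F, c = 0 ∨ c = 1 := by
    intro c
    by_cases hc0 : c = 0
    · exact Or.inl hc0
    right
    have h1 := congrFun (hsingle c hc0 i₀) 0
    have h2 := congrFun (hsingle 1 one_ne_zero i₀) 0
    rw [h1] at h2
    simp only [Pi.single_eq_same] at h2
    change c * N.e u i₀ 1 = 1 * N.e u i₀ 1 at h2
    exact mul_right_cancel₀ hy h2
  have hyone : N.e u i₀ 1 = 1 := (hF _).resolve_left hy
  have hz0 : N.e z i₀ = ![1, 0] := by
    rw [hsingle 1 one_ne_zero i₀, Pi.single_eq_same, hyone, mul_one]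
  have hzj : ∀ j, j ≠ i₀ → N.e z j = 0 := by
    intro j hj
    rw [hsingle 1 one_ne_zero j, Pi.single_eq_of_ne hj, zero_mul]
    funext l
    fin_cases l <;> rfl
  have hTz : ∀ t ∈ T, t * z * t⁻¹ = z := fun t ht => by rw [(mem_zc.1 hz).2.2 t ht]; group
  have hone : ∀ j, j = i₀ := by
    intro j
    by_contra hj
    obtain ⟨t, ht, h1⟩ := N.trans i₀ j
    have h2 := (h1 z hzW).1 (by rw [hTz t ht]; exact hzj j hj)
    rw [hz0] at h2
    have h3 := congrFun h2 0
    exact one_ne_zero h3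
  -- the kernel on `W / D`
  set M₁ := act H (zl T H) (cv T H) norm_cv with hM₁
  set M₂ := act H (zpowers z) (cv T H) norm_cv with hM₂
  have hmemM₁ : ∀ g ∈ H, (∀ w ∈ zl T H, N.e (g * w * g⁻¹) = N.e w) → g ∈ M₁ := by
    intro g hg hgw
    refine ⟨hg, fun w hw => ?_⟩
    rw [← N.ker _ (mul_mem (hWn g hg w hw) (inv_mem hw)), hecom g hg w hw, hgw w hw]
    funext i j
    exact hchar _
  have hT2 : T ≤ M₂ := by
    intro t ht
    refine ⟨hT.1 ht, fun x hx => ?_⟩
    obtain ⟨n, rfl⟩ := mem_zpowers_iff.1 hx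
    have h1 : t * z ^ n * t⁻¹ = z ^ n := by rw [← conj_zpow, hTz t ht]
    rw [h1, mul_inv_cancel]
    exact one_mem _
  have hM12 : M₁ ≤ M₂ := fun g hg => ⟨(mem_act.1 hg).1, fun x hx => (mem_act.1 hg).2 x (zpow_le hzW hx)⟩
  have hTM : T ⊓ M₁ ≤ o2 H := by
    rcases hdich M₁ (fun x hx => (mem_act.1 hx).1) (act_norm norm_zl) with h1 | h1
    · exfalso
      obtain ⟨g, hg, hgA⟩ := N.lift (fun _ => lo 1)
      have h2 : g ∈ M₂ := by
        have h3 : H ≤ M₂ := h1.symm.le.trans (sup_le hM12 hT2)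
        exact h3 hg
      have h3 := (mem_act.1 h2).2 z (mem_zpowers z)
      rw [← N.ker _ (mul_mem (hWn g hg z hzW) (inv_mem hzW)), hecom g hg z hzW] at h3
      have h4 := congrFun (congrFun h3 i₀) 1
      have h5 := hgA.1 z hzW i₀
      change N.e (g * z * g⁻¹) i₀ 1 + N.e z i₀ 1 = 0 at h4
      rw [h5, hz0, NatPair.ap_one'] at h4
      simp at h4
    · exact h1
  -- the action of `t ∈ T`
  have hline : ∀ t ∈ T, ∀ w ∈ zl T H, N.e (t * w * t⁻¹) i₀ 1 = N.e w i₀ 1 := by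
    intro t ht w hw
    obtain ⟨σ, hσ⟩ := N.line t ht
    have h1 := hσ w hw i₀
    rw [hone (σ i₀)] at h1
    rcases hF (N.e w i₀ 1) with h2 | h2
    · rw [h2]; exact h1.2 h2
    · rw [h2]
      refine (hF _).resolve_left fun h3 => ?_
      rw [h1.1 h3] at h2
      exact zero_ne_one h2
  obtain ⟨w₁, hw₁, hew₁⟩ := N.surj (fun _ => ![0, 1])
  have hc1 : ∀ t ∈ T, ∀ w ∈ zl T H, N.e (t * w * t⁻¹) i₀ 0 = N.e w i₀ 0 + N.e (t * w₁ * t⁻¹) i₀ 0 * N.e w i₀ 1 := by
    -- first if the second coordinate is zero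
    have h0 : ∀ t ∈ T, ∀ w ∈ zl T H, N.e w i₀ 1 = 0 → N.e (t * w * t⁻¹) = N.e w := by
      intro t ht w hw hw1
      have hDn : ∀ d ∈ cv T H, N.e (t * d * t⁻¹) = 0 := fun d hd =>
        (N.ker _ (hWn t (hT.1 ht) d hd.1)).2 (SQ1.FFOf.cv_norm t (hT.1 ht) d hd)
      rcases hF (N.e w i₀ 0) with h2 | h2
      · have h3 : N.e w = 0 := by
          funext i j
          rw [hone i]
          fin_cases j
          · exact h2
          · exact hw1
        rw [h3]
        exact hDn w ((N.ker w hw).1 h3)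
      · have h3 : N.e w = N.e z := by
          funext i j
          rw [hone i, hz0]
          fin_cases j
          · exact h2
          · exact hw1
        have h4 : w * z⁻¹ ∈ cv T H := by
          rw [← N.ker _ (mul_mem hw (inv_mem hzW)), N.mul _ hw _ (inv_mem hzW), heinv z hzW, h3]
          funext i j
          exact hchar _
        have h5 := hDn _ h4
        have e : t * w * t⁻¹ = (t * (w * z⁻¹) * t⁻¹) * z := by
          calc t * w * t⁻¹ = (t * (w * z⁻¹) * t⁻¹) * (t * z * t⁻¹) := by group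
            _ = _ := by rw [hTz t ht]
        rw [e, N.mul _ (hWn t (hT.1 ht) _ (mul_mem hw (inv_mem hzW))) _ hzW, h5, zero_add, h3]
    intro t ht w hw
    rcases hF (N.e w i₀ 1) with h2 | h2
    · rw [h0 t ht w hw h2, h2, mul_zero, add_zero]
    · have h3 : N.e (w * w₁⁻¹) i₀ 1 = 0 := by
        rw [N.mul _ hw _ (inv_mem hw₁), heinv w₁ hw₁, hew₁]
        show N.e w i₀ 1 + 1 = 0
        rw [h2]
        exact hchar 1
      have h4 := h0 t ht _ (mul_mem hw (inv_mem hw₁)) h3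
      have e : t * w * t⁻¹ = (t * (w * w₁⁻¹) * t⁻¹) * (t * w₁ * t⁻¹) := by group
      rw [e, N.mul _ (hWn t (hT.1 ht) _ (mul_mem hw (inv_mem hw₁))) _ (hWn t (hT.1 ht) _ hw₁), h4,
        N.mul _ hw _ (inv_mem hw₁), heinv w₁ hw₁, hew₁, h2, mul_one]
      show N.e w i₀ 0 + 0 + N.e (t * w₁ * t⁻¹) i₀ 0 = _
      rw [add_zero]
  have hM₁iff : ∀ t ∈ T, N.e (t * w₁ * t⁻¹) i₀ 0 = 0 → t ∈ M₁ := by
    intro t ht h0
    refine hmemM₁ t (hT.1 ht) fun w hw => ?_
    funext i j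
    rw [hone i]
    fin_cases j
    · show N.e (t * w * t⁻¹) i₀ 0 = N.e w i₀ 0
      rw [hc1 t ht w hw, h0, zero_mul, add_zero]
    · exact hline t ht w hw
  have hadd : ∀ s ∈ T, ∀ t ∈ T, N.e (s * t * w₁ * (s * t)⁻¹) i₀ 0 =
      N.e (t * w₁ * t⁻¹) i₀ 0 + N.e (s * w₁ * s⁻¹) i₀ 0 := by
    intro s hs t ht
    have e : s * t * w₁ * (s * t)⁻¹ = s * (t * w₁ * t⁻¹) * s⁻¹ := by group
    rw [e, hc1 s hs _ (hWn t (hT.1 ht) _ hw₁), hline t ht w₁ hw₁, hew₁]
    show _ + _ * (1 : F) = _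
    rw [mul_one]
  intro s hs t ht hsO htO
  have h1 : N.e (s * w₁ * s⁻¹) i₀ 0 = 1 := (hF _).resolve_left fun h0 => hsO (hTM (mem_inf.2 ⟨hs, hM₁iff s hs h0⟩))
  have h2 : N.e (t⁻¹ * w₁ * t⁻¹⁻¹) i₀ 0 = 1 := (hF _).resolve_left fun h0 => htO (by
    have h3 := hTM (mem_inf.2 ⟨inv_mem ht, hM₁iff _ (inv_mem ht) h0⟩)
    rw [← inv_inv t]
    exact inv_mem h3)
  refine hTM (mem_inf.2 ⟨mul_mem hs (inv_mem ht), hM₁iff _ (mul_mem hs (inv_mem ht)) ?_⟩)
  rw [hadd s hs _ (inv_mem ht), h1, h2]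
  exact hchar 1

/-- **the symmetric case is impossible** -/
theorem sym_case {k m : ℕ} (hm : 2 ≤ m) (N : SymKM T H (zl T H) (cv T H) k m) (hT : Syl T H) (hAT : A ≤ T)
    (ho : OffM (zl T H) A) (hz : z ∈ zc T) (hzD : z ∉ cv T H) (hu : u ∈ zl T H) (hc : Cm A z u) : False := by
  have hzW : z ∈ zl T H := (MinSimple.VModule.zc_le_zl T H) hz
  have hWn : ∀ g ∈ H, ∀ w ∈ zl T H, g * w * g⁻¹ ∈ zl T H := fun g hg w hw => (mem_normalizer_iff.1 (norm_zl hg) w).1 hw
  have hchar : ∀ x : ZMod 2, x + x = 0 := fun x => CharTwo.add_self_eq_zero x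
  have he1 : N.e 1 = 0 := by
    have h1 := N.mul 1 (one_mem _) 1 (one_mem _)
    rw [mul_one] at h1
    exact left_eq_add.1 h1
  have heinv : ∀ w ∈ zl T H, N.e w⁻¹ = N.e w := by
    intro w hw
    have h1 := N.mul w hw w⁻¹ (inv_mem hw)
    rw [mul_inv_cancel, he1] at h1
    have h2 : N.e w + N.e w = 0 := by
      funext i j
      exact hchar _
    have h3 : N.e w + N.e w⁻¹ = N.e w + N.e w := h1.symm.trans h2.symm
    exact add_left_cancel h3
  have hecom : ∀ g ∈ H, ∀ w ∈ zl T H, N.e (g * w * g⁻¹ * w⁻¹) = N.e (g * w * g⁻¹) + N.e w := by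
    intro g hg w hw
    rw [N.mul _ (hWn g hg w hw) _ (inv_mem hw), heinv w hw]
  have hez : N.e z ≠ 0 := fun h1 => hzD ((N.ker z hzW).1 h1)
  have hTz : ∀ t ∈ T, t * z * t⁻¹ = z := fun t ht => by rw [(mem_zc.1 hz).2.2 t ht]; group
  obtain ⟨-, hoff⟩ := N.offM A hAT ho
  obtain ⟨a, ha, haz⟩ := hc.two
  obtain ⟨τ, hτ, hτ2⟩ := hoff a ha
  have haH := hT.1 (hAT ha)
  obtain ⟨i, x', hx'⟩ : ∃ i x', N.e z i x' ≠ 0 := by
    by_contra hcon
    push Not at hcon
    exact hez (funext fun i => funext fun x => hcon i x)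
  set x := (τ i).symm x' with hx
  have hxx' : τ i x = x' := by rw [hx]; simp
  have hne : N.e u i x ≠ N.e u i x' := by
    intro e
    apply hx'
    rw [← haz, hecom a haH u hu]
    have h1 := hτ u hu i x
    rw [Equiv.Perm.one_apply, hxx'] at h1
    show N.e (a * u * a⁻¹) i x' + N.e u i x' = 0
    rw [h1, e]
    exact hchar _
  have hmv : τ i x ≠ x := by
    rw [hxx']
    intro e
    exact hne (by rw [e])
  obtain ⟨-, b, hb, hbs⟩ := hτ2 i x hmv
  rw [hxx'] at hbs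
  have hbH := hT.1 (hAT hb)
  classical
  -- `[b, u] = z`
  have hbi : ∀ y, N.e (b * u * b⁻¹) i (Equiv.swap x x' y) = N.e u i y := by
    intro y
    have h1 := hbs u hu i y
    rw [Equiv.Perm.one_apply, Function.update_self] at h1
    exact h1
  have hbj : ∀ j, j ≠ i → ∀ y, N.e (b * u * b⁻¹) j y = N.e u j y := by
    intro j hj y
    have h1 := hbs u hu j y
    rw [Equiv.Perm.one_apply, Function.update_of_ne hj] at h1
    exact h1
  have hbz : b * u * b⁻¹ * u⁻¹ = z := by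
    rcases hc.one b hb with h1 | h1
    · exfalso
      have h2 := hecom b hbH u hu
      rw [h1, he1] at h2
      have h3 := congrFun (congrFun h2 i) x'
      have h4 := hbi x
      rw [Equiv.swap_apply_left] at h4
      change (0 : ZMod 2) = N.e (b * u * b⁻¹) i x' + N.e u i x' at h3
      rw [h4] at h3
      apply hne
      calc N.e u i x = N.e u i x + (N.e u i x' + N.e u i x') := by rw [hchar, add_zero]
        _ = (N.e u i x + N.e u i x') + N.e u i x' := by ring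
        _ = N.e u i x' := by rw [← h3, zero_add]
    · exact h1
  have hez2 : N.e z = N.e (b * u * b⁻¹) + N.e u := by rw [← hbz]; exact hecom b hbH u hu
  have hzj : ∀ j, j ≠ i → ∀ y, N.e z j y = 0 := by
    intro j hj y
    rw [hez2]
    show N.e (b * u * b⁻¹) j y + N.e u j y = 0
    rw [hbj j hj y]
    exact hchar _
  have hzi : ∀ y, y ≠ x → y ≠ x' → N.e z i y = 0 := by
    intro y h1 h2
    rw [hez2]
    show N.e (b * u * b⁻¹) i y + N.e u i y = 0
    have h3 := hbi y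
    rw [Equiv.swap_apply_of_ne_of_ne h1 h2] at h3
    rw [h3]
    exact hchar _
  -- one block
  have hone : ∀ j, j = i := by
    intro j
    by_contra hj
    obtain ⟨t, ht, σ, τ', h1, h2⟩ := N.trans i j
    have h3 := h1 z hzW i x'
    rw [hTz t ht, h2, hzj j hj] at h3
    exact hx' h3.symm
  have hk : k = 1 := by
    have h1 : Subsingleton (Fin k) := ⟨fun a b => (hone a).trans (hone b).symm⟩
    have h2 : k ≤ 1 := by
      by_contra hcon
      push Not at hcon
      have := h1.elim (⟨0, by omega⟩ : Fin k) ⟨1, by omega⟩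
      simp [Fin.ext_iff] at this
    have h3 : 0 < k := i.pos
    omega
  subst hk
  have hi0 : i = 0 := Subsingleton.elim _ _
  subst hi0
  rcases F4.Split.fixed_cases N.toSymK (by omega) norm_zl hT.1 (syl_not_dvd hT) hzW
    (fun t ht => (mem_zc.1 hz).2.2 t ht) with h1 | h1
  · exact hzD h1
  · -- a further point
    obtain ⟨y, hy⟩ : ∃ y : Fin (2 ^ m + 1), y ∉ ({0, x, x'} : Finset (Fin (2 ^ m + 1))) := by
      by_contra hcon
      push Not at hcon
      have h2 : Finset.univ ⊆ ({0, x, x'} : Finset (Fin (2 ^ m + 1))) := fun y _ => hcon y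
      have h3 := Finset.card_le_card h2
      rw [Finset.card_univ, Fintype.card_fin] at h3
      have h4 : ({0, x, x'} : Finset (Fin (2 ^ m + 1))).card ≤ 3 := Finset.card_le_three
      have h5 : 2 ^ 2 ≤ 2 ^ m := Nat.pow_le_pow_right (by norm_num) hm
      omega
    simp only [Finset.mem_insert, Finset.mem_singleton, not_or] at hy
    have h2 := congrFun h1 y
    rw [F4.Split.hat_single, if_neg hy.1, zero_add] at h2
    have h3 := hzi y hy.2.1 hy.2.2
    change N.e z 0 y = 1 at h2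
    rw [h3] at h2
    exact zero_ne_one h2

/-- **One block.** -/
theorem one_blk (hT : Syl T H) (hP : IsMinPar T H) (hch : H ⊓ centralizer (o2 H : Set G) ≤ o2 H) (hAT : A ≤ T)
    (ho : OffM (zl T H) A) (hz : z ∈ zc T) (hzH : ¬ H ≤ centralizer ({z} : Set G)) (hu : u ∈ zl T H) (hc : Cm A z u) :
    ∀ b ∈ T, ∀ b' ∈ T, b ∉ o2 H → b' ∉ o2 H → b * b'⁻¹ ∈ o2 H := by
  have : Fact (Nat.Prime 2) := ⟨Nat.prime_two⟩
  obtain ⟨-, hcl⟩ := FF.Glob.ffthmM G T H hT hP hch ⟨A, hAT.trans hT.1, ho⟩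
  have hzD := not_cv hT hz hzH
  rcases hcl with ⟨F, _, _, _, k, -, ⟨N⟩⟩ | ⟨k, m, -, hm, ⟨N⟩⟩
  · exact nat_case N hT hAT ho hz hzD hu hc fun M hM hMn => hP.sup_eq_or_inf_le hT.2.1 (syl_not_dvd hT) hM hMn
  · exact (sym_case hm N hT hAT ho hz hzD hu hc).elim

end

end Cfsg.Agent.Omega.EDel.BxN
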